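import Cfsg.Agent.ClassRankThree.Partition
import Cfsg.Agent.Lib.Characters.Burnside
import Cfsg.Agent.Lib.Characters.Induction
import Cfsg.Agent.Lib.Characters.Kernel
import Cfsg.Agent.Lib.CharTheory.IndBasic
import Cfsg.Prelude.Def_TwoFusion

/-! The permutation character on the class of an involution with a regular abelian Hall subgroup
whose nontrivial elements have centraliser the subgroup itself. -/

set_option autoImplicit false
set_option linter.style.haveILetI false

namespace Cfsg.Agent.ClassRankThree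

open Subgroup
open scoped ComplexConjugate Classical
open Characters
open CharTheory.IndBasic (extendByZero_of_mem extendByZero_of_notMem)
open GStructB.TwoSizes (cent IsL mem_cent)

universe u

variable {G : Type u} [Group G] [Fintype G]

/-- An abelian subgroup equal to the centraliser of each of its nontrivial elements. -/
structure CC (H : Subgroup G) : Prop where
  comm : ∀ a b : H, a * b = b * a
  cent_eq : ∀ h ∈ H, h ≠ 1 → cent h = H

variable {H : Subgroup G}

/-- Twisting an irreducible character of `H` by an element of the normaliser. -/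
noncomputable def act (hH : CC H) (x : normalizer (H : Set G)) (l : Cfsg.IrrCharacter H) :
    Cfsg.IrrCharacter H :=
  ⟨fun h => (l : H → ℂ) ⟨(x : G)⁻¹ * h * x, (mem_normalizer_iff''.1 x.2 h).1 h.2⟩, by
    have h1 : (l : H → ℂ) 1 = 1 := irr_degree_one_of_comm hH.comm l.2
    let f : H →* ℂ :=
      { toFun := fun h => (l : H → ℂ) ⟨(x : G)⁻¹ * h * x, (mem_normalizer_iff''.1 x.2 h).1 h.2⟩
        map_one' := by
          refine Eq.trans (congrArg (l : H → ℂ) (Subtype.ext ?_)) h1
          simp
        map_mul' := fun a b => by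
          rw [← char_mul_of_degree_one (irr_isCharacter l) h1]
          exact congrArg (l : H → ℂ) (Subtype.ext (by simp [mul_assoc])) }
    exact isIrrCharacter_monoidHom f⟩

theorem act_one (hH : CC H) (l : Cfsg.IrrCharacter H) : act hH 1 l = l :=
  Subtype.ext (funext fun h => congrArg (l : H → ℂ) (Subtype.ext (by simp)))

theorem act_mul (hH : CC H) (x y : normalizer (H : Set G)) (l : Cfsg.IrrCharacter H) :
    act hH x (act hH y l) = act hH (x * y) l :=
  Subtype.ext (funext fun h => congrArg (l : H → ℂ) (Subtype.ext (by simp [mul_assoc])))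

theorem act_mem (hH : CC H) {x : normalizer (H : Set G)} (hx : (x : G) ∈ H)
    (l : Cfsg.IrrCharacter H) : act hH x l = l :=
  Subtype.ext (funext fun h => congrArg (l : H → ℂ) (Subtype.ext (by
    have : (h : G) * (x : G) = (x : G) * h := congrArg Subtype.val (hH.comm h ⟨x, hx⟩)
    show (x : G)⁻¹ * h * x = h
    rw [mul_assoc, this, inv_mul_cancel_left])))

/-- The twisting action is free outside the trivial character. -/
theorem act_eq_self_iff (hH : CC H) {l : Cfsg.IrrCharacter H} (hl : l ≠ trivIrr H)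
    (x : normalizer (H : Set G)) : act hH x l = l ↔ (x : G) ∈ H := by
  refine ⟨fun e => ?_, fun hx => act_mem hH hx l⟩
  by_contra hx
  have h1 : (l : H → ℂ) 1 = 1 := irr_degree_one_of_comm hH.comm l.2
  have hc : ∀ a b : H, (a : G) * b = b * a := fun a b => congrArg Subtype.val (hH.comm a b)
  let φ : H → H := fun h => ⟨(h : G)⁻¹ * ((x : G)⁻¹ * h * x),
    mul_mem (inv_mem h.2) ((mem_normalizer_iff''.1 x.2 h).1 h.2)⟩
  have hinj : Function.Injective φ := by
    intro a b hab
    have hab' : (a : G)⁻¹ * ((x : G)⁻¹ * a * x) = (b : G)⁻¹ * ((x : G)⁻¹ * b * x) := congrArg Subtype.val hab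
    by_contra hne
    let k : H := a * b⁻¹
    have hk : (k : G) ≠ 1 := fun e => hne (mul_inv_eq_one.1 (Subtype.ext e : k = 1))
    refine hx ?_
    refine (hH.cent_eq k k.2 hk).le (mem_cent.2 ?_)
    have e2 : (x : G)⁻¹ * a * x = (k : G) * ((x : G)⁻¹ * b * x) := by
      calc (x : G)⁻¹ * a * x = (a : G) * ((a : G)⁻¹ * ((x : G)⁻¹ * a * x)) := by group
        _ = (a : G) * ((b : G)⁻¹ * ((x : G)⁻¹ * b * x)) := by rw [hab']
        _ = _ := by simp [k, mul_assoc]
    show (x : G) * k = k * x
    calc (x : G) * k = (x : G) * ((x : G)⁻¹ * a * x * ((x : G)⁻¹ * b * x)⁻¹) := by rw [e2]; group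
      _ = (a * (b : G)⁻¹) * x := by group
      _ = k * x := by simp [k]
  refine hl (Subtype.ext (funext fun m => ?_))
  obtain ⟨h, rfl⟩ := (Finite.injective_iff_surjective.1 hinj) m
  have e1 : (l : H → ℂ) ⟨(x : G)⁻¹ * h * x, (mem_normalizer_iff''.1 x.2 h).1 h.2⟩ = (l : H → ℂ) h :=
    congrFun (congrArg Subtype.val e) h
  have hφ : φ h = h⁻¹ * ⟨(x : G)⁻¹ * h * x, (mem_normalizer_iff''.1 x.2 h).1 h.2⟩ := rfl
  rw [hφ, char_mul_of_degree_one (irr_isCharacter l) h1, e1,
    ← char_mul_of_degree_one (irr_isCharacter l) h1, inv_mul_cancel, h1, trivIrr_coe]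

/-- Inner products of induced degree-zero functions. -/
theorem indFun_res (hH : CC H) (φ : H → ℂ) (hφ : φ 1 = 0) (h : H) :
    Cfsg.indFun H φ (h : G) = (Nat.card H : ℂ)⁻¹ * ∑ x : normalizer (H : Set G),
      φ ⟨(x : G)⁻¹ * h * x, (mem_normalizer_iff''.1 x.2 h).1 h.2⟩ := by
  classical
  rw [Cfsg.indFun]
  congr 1
  have key : ∑ x ∈ Finset.univ.filter (fun x : G => x ∈ normalizer (H : Set G)),
      Cfsg.extendByZero H φ (x⁻¹ * h * x) =
      ∑ x : normalizer (H : Set G), Cfsg.extendByZero H φ ((x : G)⁻¹ * h * x) :=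
    Finset.sum_subtype _ (fun x => by simp) _
  refine Eq.trans ?_ (key.trans ?_)
  · refine (Finset.sum_subset (Finset.filter_subset _ _) fun x _ hx => ?_).symm
    rw [Finset.mem_filter, not_and] at hx
    by_cases hm : x⁻¹ * (h : G) * x ∈ H
    · by_cases h1 : (h : G) = 1
      · rw [extendByZero_of_mem H φ hm]
        exact Eq.trans (congrArg φ (Subtype.ext (by simp [h1]))) hφ
      refine absurd ?_ (hx (Finset.mem_univ _))
      refine mem_normalizer_iff''.2 fun g => ?_
      have e := hH.cent_eq _ h.2 h1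
      have e' := hH.cent_eq _ hm (fun e' => h1 (by simpa [mul_assoc] using congrArg (fun z => x * z * x⁻¹) e'))
      constructor
      · intro hg
        rw [← e'] 
        rw [← e] at hg
        simpa using GStructB.TwoSizes.conj_mem_cent (c := x⁻¹) hg
      · intro hg
        rw [← e] 
        rw [← e'] at hg
        have := GStructB.TwoSizes.conj_mem_cent (c := x) hg
        rwa [show x * (x⁻¹ * g * x) * x⁻¹ = g by group,
          show x * (x⁻¹ * (h : G) * x) * x⁻¹ = h by group] at this
    · exact extendByZero_of_notMem H φ hm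
  · exact Finset.sum_congr rfl fun x _ => extendByZero_of_mem H φ _

/-- The number of elements of the normaliser twisting `l` to `m`. -/
noncomputable def cnt (hH : CC H) (l m : Cfsg.IrrCharacter H) : ℕ :=
  Nat.card {x : normalizer (H : Set G) // act hH x l = m}

theorem cnt_of_act (hH : CC H) {l : Cfsg.IrrCharacter H} (hl : l ≠ trivIrr H)
    (x₀ : normalizer (H : Set G)) : cnt hH l (act hH x₀ l) = Nat.card H := by
  refine Nat.card_congr
    { toFun := fun x => ⟨((x₀⁻¹ * x.1 : normalizer (H : Set G)) : G), ?_⟩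
      invFun := fun h => ⟨x₀ * ⟨h, le_normalizer h.2⟩, ?_⟩
      left_inv := fun x => Subtype.ext (Subtype.ext (by simp))
      right_inv := fun h => Subtype.ext (by simp) }
  · rw [← act_eq_self_iff hH hl, ← act_mul, x.2, act_mul, inv_mul_cancel, act_one]
  · rw [← act_mul, act_mem hH (x := ⟨(h : G), le_normalizer h.2⟩) h.2]

theorem cnt_self (hH : CC H) {l : Cfsg.IrrCharacter H} (hl : l ≠ trivIrr H) :
    cnt hH l l = Nat.card H := by
  conv_lhs => arg 3; rw [← act_one hH l]
  exact cnt_of_act hH hl 1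

theorem cnt_eq_zero (hH : CC H) {l m : Cfsg.IrrCharacter H}
    (h : ∀ x, act hH x l ≠ m) : cnt hH l m = 0 := by
  rw [cnt, Nat.card_eq_zero]
  exact Or.inl ⟨fun x => h x.1 x.2⟩

theorem inner_indFun_sub (hH : CC H) (a b c d : Cfsg.IrrCharacter H) :
    Cfsg.classInner (Cfsg.indFun H ((a : H → ℂ) - b)) (Cfsg.indFun H ((c : H → ℂ) - d)) =
      (Nat.card H : ℂ)⁻¹ *
        ((cnt hH c a : ℂ) - cnt hH d a - cnt hH c b + cnt hH d b) := by
  classical
  haveI := Fintype.ofFinite H
  have hd : ∀ l : Cfsg.IrrCharacter H, (l : H → ℂ) 1 = 1 := fun l => irr_degree_one_of_comm hH.comm l.2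
  rw [frobenius_reciprocity H _ (indFun_isClassFunction H _)]
  have hres : (fun h : H => Cfsg.indFun H ((c : H → ℂ) - d) (h : G)) =
      (Nat.card H : ℂ)⁻¹ • ∑ x : normalizer (H : Set G),
        (((act hH x c : Cfsg.IrrCharacter H) : H → ℂ) - (act hH x d : Cfsg.IrrCharacter H)) := by
    funext h
    rw [indFun_res hH _ (by simp [hd]), Pi.smul_apply, Finset.sum_apply, smul_eq_mul]
    rfl
  rw [hres, classInner_smul_right, classInner_sum_right, map_inv₀, Complex.conj_natCast]
  simp only [classInner_sub_left, classInner_sub_right, classInner_irr]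
  congr 1
  simp only [Finset.sum_sub_distrib, Finset.sum_boole, cnt, Nat.card_eq_fintype_card,
    Fintype.card_subtype, eq_comm (a := a), eq_comm (a := b)]
  ring

section Main

variable (hH : CC H) {K : Subgroup G} (hKi : K.index = Nat.card H)
  (hcop : (Nat.card K).Coprime (Nat.card H))

/-- Multiplicity in the permutation character. -/
noncomputable def mult (K : Subgroup G) (χ : Cfsg.IrrCharacter G) : ℕ :=
  (classInner_char_nat (isCharacter_indFun K (isCharacter_one (G := K))) (irr_isCharacter χ)).choose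

theorem mult_spec (K : Subgroup G) (χ : Cfsg.IrrCharacter G) :
    Cfsg.classInner (Cfsg.indFun K fun _ => (1 : ℂ)) (χ : G → ℂ) = (mult K χ : ℂ) :=
  (classInner_char_nat (isCharacter_indFun K (isCharacter_one (G := K))) (irr_isCharacter χ)).choose_spec

/-- Multiplicity in the restriction to `H`. -/
noncomputable def rmult (χ : Cfsg.IrrCharacter G) (l : Cfsg.IrrCharacter H) : ℕ :=
  haveI := Fintype.ofFinite H
  (classInner_char_nat (isCharacter_restrict H (irr_isCharacter χ)) (irr_isCharacter l)).choose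

theorem rmult_spec [Fintype H] (χ : Cfsg.IrrCharacter G) (l : Cfsg.IrrCharacter H) :
    Cfsg.classInner (fun h : H => (χ : G → ℂ) h) (l : H → ℂ) = (rmult χ l : ℂ) := by
  rw [rmult]
  convert (classInner_char_nat (isCharacter_restrict H (irr_isCharacter χ)) (irr_isCharacter l)).choose_spec

theorem rmult_act (χ : Cfsg.IrrCharacter G) (l : Cfsg.IrrCharacter H) (x : normalizer (H : Set G)) :
    rmult χ (act hH x l) = rmult χ l := by
  classical
  haveI := Fintype.ofFinite H
  rw [← Nat.cast_inj (R := ℂ), ← rmult_spec, ← rmult_spec, classInner_def, classInner_def]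
  congr 1
  let e : H ≃ H :=
    { toFun := fun h => ⟨(x : G)⁻¹ * h * x, (mem_normalizer_iff''.1 x.2 h).1 h.2⟩
      invFun := fun h => ⟨(x : G) * h * (x : G)⁻¹, (mem_normalizer_iff.1 x.2 h).1 h.2⟩
      left_inv := fun h => Subtype.ext (show (x : G) * ((x : G)⁻¹ * h * x) * (x : G)⁻¹ = h by group)
      right_inv := fun h => Subtype.ext (show (x : G)⁻¹ * ((x : G) * h * (x : G)⁻¹) * x = h by group) }
  refine Fintype.sum_equiv e _ _ fun h => ?_
  show _ = (χ : G → ℂ) ((x : G)⁻¹ * h * x) * _
  rw [show (χ : G → ℂ) ((x : G)⁻¹ * h * x) = (χ : G → ℂ) h by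
    simpa using irr_isClassFunction χ h (x : G)⁻¹]
  rfl

include hH in
theorem sum_rmult [Fintype (Cfsg.IrrCharacter H)] (χ : Cfsg.IrrCharacter G) :
    (χ : G → ℂ) 1 = ∑ l : Cfsg.IrrCharacter H, (rmult χ l : ℂ) := by
  haveI := Fintype.ofFinite H
  have := congrFun (classFun_eq_sum (f := fun h : H => (χ : G → ℂ) h)
    (classFun_restrict H (irr_isClassFunction χ))) 1
  simp only [Finset.sum_apply, Pi.smul_apply, smul_eq_mul, OneMemClass.coe_one, rmult_spec] at this
  rw [this]
  exact Finset.sum_congr rfl fun l _ => by rw [irr_degree_one_of_comm hH.comm l.2, mul_one]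

theorem mult_triv : mult K (trivIrr G) = 1 := by
  haveI := Fintype.ofFinite K
  rw [← Nat.cast_inj (R := ℂ), ← mult_spec, trivIrr_coe,
    frobenius_reciprocity K _ (fun _ _ => rfl)]
  exact (classInner_isIrr_self (isIrrCharacter_one (G := K))).trans Nat.cast_one.symm

theorem rmult_triv : rmult (trivIrr G) (trivIrr H) = 1 := by
  haveI := Fintype.ofFinite H
  rw [← Nat.cast_inj (R := ℂ), ← rmult_spec]
  exact (classInner_isIrr_self (isIrrCharacter_one (G := H))).trans Nat.cast_one.symm

include hH hKi hcop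

theorem sum_mult [Fintype (Cfsg.IrrCharacter G)] (l : Cfsg.IrrCharacter H) :
    ∑ χ : Cfsg.IrrCharacter G, mult K χ * rmult χ l = 1 := by
  classical
  haveI := Fintype.ofFinite H
  set π := Cfsg.indFun K fun _ => (1 : ℂ)
  have hπ : IsClassFunction G π := indFun_isClassFunction K _
  have h1 : Cfsg.classInner (fun h : H => π h) (l : H → ℂ) = 1 := by
    have hz : ∀ h : H, h ≠ 1 → π h = 0 := by
      intro h hh
      rw [show π h = _ from CharTheory.IndBasic.indFun_one_eq_card_fixed K (h : G)]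
      rw [Nat.cast_eq_zero, Nat.card_eq_zero]
      refine Or.inl ⟨fun ⟨c, hc⟩ => hh ?_⟩
      induction c using QuotientGroup.induction_on with
      | H x =>
        rw [MulAction.Quotient.smul_coe, smul_eq_mul, eq_comm, QuotientGroup.eq] at hc
        have h1 : orderOf (x⁻¹ * (h : G) * x) ∣ Nat.card K := by
          rw [← Subgroup.orderOf_mk _ (by simpa [mul_assoc] using hc)]
          exact orderOf_dvd_natCard _
        have h2 : orderOf (x⁻¹ * (h : G) * x) = orderOf h := by
          rw [← Subgroup.orderOf_coe h]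
          simpa using orderOf_injective (MulAut.conj x⁻¹).toMonoidHom (MulAut.conj x⁻¹).injective (h : G)
        have := Nat.dvd_gcd h1 (h2 ▸ orderOf_dvd_natCard h : _ ∣ Nat.card H)
        rwa [hcop.gcd_eq_one, Nat.dvd_one, h2, orderOf_eq_one_iff] at this
    rw [classInner_def, Finset.sum_eq_single 1 (fun h _ hh => by rw [hz h hh, zero_mul]) (by simp)]
    rw [irr_degree_one_of_comm hH.comm l.2, map_one, mul_one]
    rw [show π ((1 : H) : G) = _ from CharTheory.IndBasic.indFun_one_eq_card_fixed K _]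
    rw [Nat.card_congr (Equiv.subtypeUnivEquiv fun c : G ⧸ K => by simp : {c : G ⧸ K // ((1 : H) : G) • c = c} ≃ G ⧸ K), ← Subgroup.index_eq_card, hKi]
    exact inv_mul_cancel₀ natCard_ne_zero
  have h2 : (fun h : H => π h) =
      ∑ χ : Cfsg.IrrCharacter G, (mult K χ : ℂ) • (fun h : H => (χ : G → ℂ) h) := by
    funext h
    conv_lhs => rw [classFun_eq_sum hπ]
    simp only [Finset.sum_apply, Pi.smul_apply, π, mult_spec]
  rw [h2, classInner_sum_left] at h1
  simp only [classInner_smul_left, rmult_spec] at h1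
  exact_mod_cast h1

theorem mul_rmult_le (χ : Cfsg.IrrCharacter G) (l : Cfsg.IrrCharacter H) :
    mult K χ * rmult χ l ≤ 1 := by
  haveI := Fintype.ofFinite (Cfsg.IrrCharacter G)
  exact (Finset.single_le_sum (fun _ _ => Nat.zero_le _) (Finset.mem_univ χ)).trans
    (sum_mult hH hKi hcop l).le

theorem eq_of_mul_ne_zero {χ χ' : Cfsg.IrrCharacter G} {l : Cfsg.IrrCharacter H}
    (h1 : mult K χ * rmult χ l ≠ 0) (h2 : mult K χ' * rmult χ' l ≠ 0) : χ = χ' := by
  classical
  haveI := Fintype.ofFinite (Cfsg.IrrCharacter G)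
  by_contra hne
  have h := sum_mult hH hKi hcop l
  have := Finset.sum_le_sum_of_subset (f := fun c => mult K c * rmult c l)
    (Finset.subset_univ ({χ, χ'} : Finset (Cfsg.IrrCharacter G)))
  rw [Finset.sum_pair hne] at this
  omega

theorem rmult_triv_eq_zero {χ : Cfsg.IrrCharacter G} (hm : mult K χ ≠ 0) (hχ : χ ≠ trivIrr G) :
    rmult χ (trivIrr H) = 0 := by
  by_contra hn
  refine hχ (eq_of_mul_ne_zero hH hKi hcop (mul_ne_zero hm hn) ?_)
  rw [mult_triv, rmult_triv]; exact one_ne_zero

/-- The degree of a nonprincipal constituent is prime to the index. -/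
theorem degree_coprime {χ : Cfsg.IrrCharacter G} (hm : mult K χ ≠ 0) (hχ : χ ≠ trivIrr G) :
    ∃ d : ℕ, (χ : G → ℂ) 1 = (d : ℂ) ∧ d.Coprime (Nat.card H) := by
  classical
  haveI := Fintype.ofFinite H
  haveI := Fintype.ofFinite (Cfsg.IrrCharacter H)
  haveI := Fintype.ofFinite (Cfsg.IrrCharacter G)
  obtain ⟨d, hd⟩ := char_one_nat (irr_isCharacter χ)
  refine ⟨d, hd, ?_⟩
  have h01 : ∀ l : Cfsg.IrrCharacter H, rmult χ l = 0 ∨ rmult χ l = 1 := fun l => by
    have := mul_rmult_le hH hKi hcop χ l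
    have := Nat.le_mul_of_pos_left (rmult χ l) (Nat.pos_of_ne_zero hm)
    omega
  have hdsum : d = (Finset.univ.filter fun l : Cfsg.IrrCharacter H => rmult χ l = 1).card := by
    have e := sum_rmult (H := H) hH χ
    rw [hd] at e
    rw [Finset.card_filter, ← Nat.cast_inj (R := ℂ), e, Nat.cast_sum]
    refine Finset.sum_congr rfl fun l _ => ?_
    rcases h01 l with h | h <;> simp [h]
  by_cases hall : ∀ l, l ≠ trivIrr H → rmult χ l = 1
  · have he : (Finset.univ.filter fun l => rmult χ l = 1) = Finset.univ.erase (trivIrr H) := by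
      ext l
      simp only [Finset.mem_filter, Finset.mem_univ, true_and, Finset.mem_erase, and_true]
      exact ⟨fun h e => by rw [e, rmult_triv_eq_zero hH hKi hcop hm hχ] at h; exact zero_ne_one h, hall l⟩
    have hcard : Fintype.card (Cfsg.IrrCharacter H) = Nat.card H := by
      rw [← Nat.card_eq_fintype_card, card_irrCharacter]
      refine (Nat.card_congr (Equiv.ofBijective ConjClasses.mk ⟨fun a b h => ?_, ConjClasses.mk_surjective⟩)).symm
      obtain ⟨c, hc⟩ := isConj_iff.1 (ConjClasses.mk_eq_mk_iff_isConj.1 h)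
      rw [← hc, hH.comm c a, mul_inv_cancel_right]
    rw [hdsum, he, Finset.card_erase_of_mem (Finset.mem_univ _), Finset.card_univ, hcard]
    have hpos : 0 < Nat.card H := Nat.card_pos
    exact (Nat.coprime_self_sub_left (by omega : 1 ≤ Nat.card H)).2 (Nat.coprime_one_left _)
  push Not at hall
  obtain ⟨ν, hν, hν0⟩ := hall
  replace hν0 : rmult χ ν = 0 := (h01 ν).resolve_right hν0
  have hd0 : 0 < d := by
    refine Nat.pos_of_ne_zero fun e => irr_one_ne_zero χ.2 ?_
    rw [hd, e, Nat.cast_zero]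
  obtain ⟨l, hl⟩ := Finset.card_pos.1 (hdsum ▸ hd0)
  replace hl : rmult χ l = 1 := (Finset.mem_filter.1 hl).2
  have hl1 : ∀ {μ}, rmult χ μ = 1 → μ ≠ trivIrr H := fun {μ} h e => by
    rw [e, rmult_triv_eq_zero hH hKi hcop hm hχ] at h; exact zero_ne_one h
  obtain ⟨χ', -, hχ'⟩ := Finset.exists_ne_zero_of_sum_ne_zero
    (show ∑ c : Cfsg.IrrCharacter G, mult K c * rmult c ν ≠ 0 by rw [sum_mult hH hKi hcop ν]; exact one_ne_zero)
  have hχ'ν : rmult χ' ν = 1 := by
    have := mul_rmult_le hH hKi hcop χ' ν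
    exact Nat.eq_one_of_mul_eq_one_left (show mult K χ' * rmult χ' ν = 1 by omega)
  have hne : χ ≠ χ' := fun e => by rw [← e, hν0] at hχ'ν; exact zero_ne_one hχ'ν
  have hl' : ∀ {μ : Cfsg.IrrCharacter H}, rmult χ μ = 1 → rmult χ' μ = 0 := by
    intro μ h
    by_contra hn
    exact hne (eq_of_mul_ne_zero hH hKi hcop (mul_ne_zero hm (by omega))
      (mul_ne_zero (left_ne_zero_of_mul hχ') hn))
  have horb : ∀ {μ : Cfsg.IrrCharacter H}, rmult χ μ = 1 → ∀ x, act hH x μ ≠ ν ∧ act hH x ν ≠ μ := by
    intro μ h x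
    refine ⟨fun e => ?_, fun e => ?_⟩
    · rw [← e, rmult_act hH χ μ x, h] at hν0; exact one_ne_zero hν0
    · rw [← e, rmult_act hH χ ν x, hν0] at h; exact zero_ne_one h
  have hH0 : (Nat.card H : ℂ) ≠ 0 := Nat.cast_ne_zero.2 Nat.card_pos.ne'
  have key : ∀ {μ : Cfsg.IrrCharacter H}, rmult χ μ = 1 →
      Cfsg.indFun H ((μ : H → ℂ) - ν) = (χ : G → ℂ) - χ' := by
    intro μ h
    have hD : ∀ c : Cfsg.IrrCharacter G, Cfsg.classInner (Cfsg.indFun H ((μ : H → ℂ) - ν)) (c : G → ℂ) =
        (rmult c μ : ℂ) - rmult c ν := by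
      intro c
      rw [frobenius_reciprocity H _ (irr_isClassFunction c), classInner_sub_left,
        classInner_conj_symm (fun h : H => (c : G → ℂ) h) (μ : H → ℂ),
        classInner_conj_symm (fun h : H => (c : G → ℂ) h) (ν : H → ℂ)]
      simp [rmult_spec]
    refine sub_eq_zero.1 (classInner_self_eq_zero.1 ?_)
    have hnorm := inner_indFun_sub hH μ ν μ ν
    rw [cnt_self hH (hl1 h), cnt_self hH hν, cnt_eq_zero hH fun x => (horb h x).1,
      cnt_eq_zero hH fun x => (horb h x).2] at hnorm
    simp only [classInner_sub_left, classInner_sub_right]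
    rw [hnorm, classInner_conj_symm (Cfsg.indFun H _) (χ : G → ℂ),
      classInner_conj_symm (Cfsg.indFun H _) (χ' : G → ℂ)]
    simp [hD, h, hν0, hl' h, hχ'ν, classInner_irr, hne, Ne.symm hne]
    field_simp
    ring
  have hone : ∀ {μ : Cfsg.IrrCharacter H}, rmult χ μ = 1 → ∃ x, act hH x l = μ := by
    intro μ h
    by_contra hno
    push Not at hno
    have h2 := inner_indFun_sub hH μ ν l ν
    rw [cnt_eq_zero hH hno, cnt_self hH hν, cnt_eq_zero hH fun x => (horb hl x).1,
      cnt_eq_zero hH fun x => (horb h x).2, key h, key hl] at h2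
    simp only [classInner_sub_left, classInner_sub_right, classInner_irr, hne, Ne.symm hne,
      if_true, if_false] at h2
    simp at h2
  have hsum : Nat.card (normalizer (H : Set G)) = d * Nat.card H := by
    have hmaps : ∀ x ∈ (Finset.univ : Finset (normalizer (H : Set G))),
        act hH x l ∈ Finset.univ.filter fun l => rmult χ l = 1 := fun x _ =>
      Finset.mem_filter.2 ⟨Finset.mem_univ _, (rmult_act hH χ l x).trans hl⟩
    rw [Nat.card_eq_fintype_card, ← Finset.card_univ, Finset.card_eq_sum_card_fiberwise hmaps, hdsum,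
      ← smul_eq_mul, ← Finset.sum_const]
    refine Finset.sum_congr rfl fun μ hμ => ?_
    obtain ⟨x, rfl⟩ := hone (Finset.mem_filter.1 hμ).2
    rw [← cnt_of_act hH (hl1 hl) x, cnt, Nat.card_eq_fintype_card (α := {y // _}), Fintype.card_subtype]
  have hdvd : d ∣ Nat.card K := by
    refine Nat.dvd_of_mul_dvd_mul_right (Nat.card_pos (α := H)) ?_
    rw [← hsum, mul_comm (Nat.card K), ← hKi, mul_comm, Subgroup.card_mul_index]
    exact Subgroup.card_subgroup_dvd_card _
  exact hcop.coprime_dvd_left hdvd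

omit hH in
/-- If a normal subgroup holding all commutators of the involution covers `G` with the centraliser,
the involution is isolated. -/
theorem isolated_of_generated (hH : CC H) {t : G} (ht : orderOf t = 2) (hK : cent t = K)
    (hgen : ∀ N : Subgroup G, N.Normal → (∀ x : G, x * t * x⁻¹ * t⁻¹ ∈ N) →
      ∀ g : G, ∃ n ∈ N, ∃ k ∈ K, g = n * k) :
    Cfsg.IsIsolatedInvolution t := by
  classical
  haveI := Fintype.ofFinite (Cfsg.IrrCharacter G)
  have hz : ∀ χ : Cfsg.IrrCharacter G, χ ≠ trivIrr G → mult K χ ≠ 0 → (χ : G → ℂ) t = 0 := by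
    intro χ hχ hm
    obtain ⟨d, hd, hdc⟩ := degree_coprime hH hKi hcop hm hχ
    obtain ⟨n, ρ, hρ, hchar⟩ := χ.2
    rw [← hchar, ρ.char_one, Nat.cast_inj] at hd
    rw [← hchar]
    refine (char_eq_zero_or_norm_eq_of_coprime ρ t ?_).resolve_right fun hnorm => ?_
    · show Nat.Coprime _ (cent t).index
      rw [hK, hKi, hd]; exact hdc
    obtain ⟨ω, hω⟩ := rep_apply_eq_smul_of_norm_eq ρ t hnorm
    have hker : ∀ x : G, x * t * x⁻¹ * t⁻¹ ∈ ρ.asGroupHom.ker := by
      intro x
      have hc : ρ.asGroupHom x * ρ.asGroupHom t = ρ.asGroupHom t * ρ.asGroupHom x :=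
        Units.ext (by simp [Representation.asGroupHom_apply, hω, Module.End.mul_eq_comp])
      rw [MonoidHom.mem_ker, map_mul, map_mul, map_mul, map_inv, map_inv, hc, mul_inv_cancel_right,
        mul_inv_cancel]
    set N := ρ.asGroupHom.ker with hN
    have hfac : ∀ g : G, ∃ k : K, (QuotientGroup.mk' N) (k : G) = QuotientGroup.mk' N g := by
      intro g
      obtain ⟨m, hmN, k, hk, rfl⟩ := hgen N (MonoidHom.normal_ker _) hker g
      refine ⟨⟨k, hk⟩, ?_⟩
      have hm1 : QuotientGroup.mk' N m = 1 := (QuotientGroup.eq_one_iff m).2 hmN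
      show QuotientGroup.mk' N k = QuotientGroup.mk' N (m * k)
      rw [map_mul, hm1, one_mul]
    have hχN : ∀ g h : G, QuotientGroup.mk' N g = QuotientGroup.mk' N h →
        (χ : G → ℂ) g = (χ : G → ℂ) h := by
      intro g h e
      have he : ρ.asGroupHom g = ρ.asGroupHom h := by
        have := MonoidHom.mem_ker.1 (QuotientGroup.eq.1 e)
        rwa [map_mul, map_inv, inv_mul_eq_one] at this
      rw [← hchar]
      show LinearMap.trace ℂ _ (ρ g) = LinearMap.trace ℂ _ (ρ h)
      rw [show ρ g = ρ h from congrArg Units.val he]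
    haveI := Fintype.ofFinite K
    let f := QuotientGroup.mk' N
    let fK : K →* G ⧸ N := f.comp K.subtype
    have hfib : ∀ {X : Type u} [Group X] [Fintype X] (φ : X →* G ⧸ N) (ψ : G ⧸ N → ℂ),
        Function.Surjective φ → ∑ x : X, ψ (φ x) = (Nat.card φ.ker : ℂ) * ∑ q : G ⧸ N, ψ q := by
      intro X _ _ φ ψ hφ
      rw [← Finset.sum_fiberwise Finset.univ φ (fun x => ψ (φ x)), Finset.mul_sum]
      refine Finset.sum_congr rfl fun q _ => ?_
      rw [Finset.sum_congr rfl (g := fun _ => ψ q) (fun x hx => by rw [(Finset.mem_filter.1 hx).2]),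
        Finset.sum_const, nsmul_eq_mul]
      congr 1
      rw [Nat.cast_inj]
      obtain ⟨x₀, rfl⟩ := hφ q
      rw [Nat.card_eq_fintype_card, Fintype.card_subtype]
      refine Finset.card_bij (fun x _ => x₀⁻¹ * x) (fun x hx => ?_) (fun x _ y _ e => mul_left_cancel e)
        (fun y hy => ⟨x₀ * y, ?_, by group⟩)
      · rw [Finset.mem_filter] at hx ⊢
        exact ⟨Finset.mem_univ _, MonoidHom.mem_ker.2 (by rw [map_mul, map_inv, hx.2, inv_mul_cancel])⟩
      · rw [Finset.mem_filter] at hy ⊢
        exact ⟨Finset.mem_univ _, by rw [map_mul, MonoidHom.mem_ker.1 hy.2, mul_one]⟩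
    have hψ : ∀ g : G, (χ : G → ℂ) g = (χ : G → ℂ) (f g).out := fun g =>
      hχN _ _ (by simp [f])
    have h0 := classInner_isIrr_ne χ.2 (trivIrr G).2 (fun e => hχ (Subtype.ext e))
    have h1 : Cfsg.classInner (fun k : K => (χ : G → ℂ) k) (fun _ => 1) ≠ 0 := by
      intro h1
      have := mult_spec K χ
      rw [frobenius_reciprocity K _ (irr_isClassFunction χ), classInner_conj_symm (fun k : K => (χ : G → ℂ) k),
        h1, map_zero] at this
      exact hm (Nat.cast_eq_zero.1 this.symm)
    refine h1 ?_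
    rw [classInner_def] at h0 ⊢
    simp only [trivIrr_coe, map_one, mul_one, mul_eq_zero, inv_eq_zero] at h0 ⊢
    refine Or.inr ?_
    have hsG := hfib f (fun q => (χ : G → ℂ) q.out) (QuotientGroup.mk'_surjective N)
    have hsK := hfib fK (fun q => (χ : G → ℂ) q.out) (fun q => by
      obtain ⟨g, rfl⟩ := QuotientGroup.mk'_surjective N q
      exact hfac g)
    rw [← Finset.sum_congr rfl (fun g _ => hψ g)] at hsG
    have hG0 : ∑ g : G, (χ : G → ℂ) g = 0 :=
      h0.resolve_left (Nat.cast_ne_zero.2 Nat.card_pos.ne')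
    rw [(Finset.sum_congr rfl fun (k : K) _ => hψ k).trans hsK, show ∑ q : G ⧸ N, (χ : G → ℂ) q.out = 0 from ?_, mul_zero]
    rw [hG0] at hsG
    exact (mul_eq_zero.1 hsG.symm).resolve_left (Nat.cast_ne_zero.2 Nat.card_pos.ne')
  have hπ : Cfsg.indFun K (fun _ => (1 : ℂ)) t = 1 := by
    conv_lhs => rw [classFun_eq_sum (indFun_isClassFunction K (fun _ => (1 : ℂ)))]
    rw [Finset.sum_apply, Finset.sum_eq_single (trivIrr G)]
    · rw [Pi.smul_apply, mult_spec, mult_triv, trivIrr_coe, Nat.cast_one, smul_eq_mul, mul_one]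
    · intro χ _ hχ
      rw [Pi.smul_apply, mult_spec, smul_eq_mul]
      by_cases hm : mult K χ = 0
      · rw [hm, Nat.cast_zero, zero_mul]
      · rw [hz χ hχ hm, mul_zero]
    · simp
  rw [CharTheory.IndBasic.indFun_one_eq_card_fixed, Nat.cast_eq_one] at hπ
  haveI := (Nat.card_eq_one_iff_unique.1 hπ).1
  refine ⟨ht, fun g hg => ?_⟩
  have hf : ∀ x : G, x⁻¹ * t * x ∈ K → t • (x : G ⧸ K) = (x : G ⧸ K) := fun x hx => by
    rw [MulAction.Quotient.smul_coe, smul_eq_mul, eq_comm, QuotientGroup.eq, ← mul_assoc]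
    exact hx
  have h1 := hf g⁻¹ (by rw [inv_inv, ← hK]; exact mem_cent.2 hg.symm)
  have h2 := hf 1 (by rw [← hK]; simpa using GStructB.TwoSizes.self_mem_cent t)
  have e := congrArg Subtype.val (Subsingleton.elim (⟨_, h1⟩ : {c : G ⧸ K // t • c = c}) ⟨_, h2⟩)
  have hgK : g ∈ cent t := by
    rw [hK]
    simpa using QuotientGroup.eq.1 e
  rw [(mem_cent.1 hgK).eq, mul_inv_cancel_right]


omit hH in
/-- The involution of a simple group is isolated. -/
theorem isolated_of_cc (hH : CC H) [IsSimpleGroup G] {t : G} (ht : orderOf t = 2)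
    (hK : cent t = K) (htc : t ∉ center G) : Cfsg.IsIsolatedInvolution t :=
  isolated_of_generated hKi hcop hH ht hK fun N hN hNt g => by
    rcases hN.eq_bot_or_eq_top with h | h
    · refine absurd (mem_center_iff.2 fun x => ?_) htc
      have h' := hNt x
      rw [h, mem_bot, mul_inv_eq_one, mul_inv_eq_iff_eq_mul] at h'
      exact h'
    · exact ⟨g, h ▸ mem_top g, 1, one_mem K, (mul_one g).symm⟩

end Main

end Cfsg.Agent.ClassRankThree
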