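import Cfsg.Agent.ClassRankThree.Simple
import Cfsg.Agent.ClassRankThree.Chars
import Cfsg.Agent.Lib.ZStar.Consequences

/-! Simple groups with three class sizes of noncentral elements. -/

set_option autoImplicit false
set_option linter.style.haveILetI false

namespace Cfsg.Agent.ClassRankThree

open Subgroup
open GroupStructure3.ClassGraph (cs cs_conj cs_eq_one_iff exists_mul_of_coprime exists_conj_le centralizer_mul_eq cs_pow_dvd)
open GStructB.TwoSizes (cent IsL mem_cent self_mem_cent)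

universe u

variable {G : Type u} [Group G] [Finite G] [IsSimpleGroup G]

omit [IsSimpleGroup G] [Finite G] in
theorem card_cent_mul_cs (g : G) : Nat.card (cent g) * cs g = Nat.card G := card_mul_index _

omit [IsSimpleGroup G] in
theorem cent_eq_of_cs_eq {g h : G} (hle : cent g ≤ cent h) (he : cs g = cs h) : cent g = cent h := by
  refine eq_of_le_of_card_ge hle (le_of_eq ?_)
  refine Nat.eq_of_mul_eq_mul_right (Nat.pos_of_ne_zero (GroupStructure3.ClassGraph.cs_ne_zero g)) ?_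
  rw [card_cent_mul_cs, he, card_cent_mul_cs]

omit [IsSimpleGroup G] in
theorem exists_conj_centralising {p : ℕ} [Fact p.Prime] {g : G} (hp : ¬ p ∣ cs g) (P : Sylow p G) :
    ∃ d : G, (P : Subgroup G) ≤ cent (d * g * d⁻¹) := by
  obtain ⟨d, hd⟩ := exists_conj_le hp P
  refine ⟨d⁻¹, fun x hx => ?_⟩
  have := GStructB.TwoSizes.conj_mem_cent (c := d⁻¹) (hd x hx)
  rwa [show d⁻¹ * (d * x * d⁻¹) * d⁻¹⁻¹ = x by group] at this

omit [IsSimpleGroup G] in
theorem exists_center_sylow {p : ℕ} [Fact p.Prime] (hp : p ∣ Nat.card G) (P : Sylow p G) :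
    ∃ z ∈ (P : Subgroup G), z ≠ 1 ∧ (P : Subgroup G) ≤ cent z ∧ ¬ p ∣ cs z := by
  haveI : Nontrivial (P : Subgroup G) := (nontrivial_iff_ne_bot _).2 (P.ne_bot_of_dvd_card hp)
  haveI : Nontrivial (center (P : Subgroup G)) := P.2.center_nontrivial
  obtain ⟨z, hz⟩ := exists_ne (1 : center (P : Subgroup G))
  have hPz : (P : Subgroup G) ≤ cent ((z : (P : Subgroup G)) : G) := fun s hs => mem_cent.2
    (congrArg Subtype.val (mem_center_iff.1 z.2 ⟨s, hs⟩))
  exact ⟨_, (z : (P : Subgroup G)).2, fun e => hz (Subtype.ext (Subtype.ext e)), hPz,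
    fun h => P.not_dvd_index (h.trans (index_dvd_of_le hPz))⟩

/-- The three sizes, `a` properly dividing `b`. -/
structure Sizes (G : Type u) [Group G] (a b c : ℕ) : Prop where
  ncomm : ¬ IsMulCommutative G
  vals : ∀ g : G, g ≠ 1 → cs g = a ∨ cs g = b ∨ cs g = c
  ea : ∃ g : G, g ≠ 1 ∧ cs g = a
  eb : ∃ g : G, g ≠ 1 ∧ cs g = b
  ec : ∃ g : G, g ≠ 1 ∧ cs g = c
  dvd_ab : a ∣ b
  ne_ab : a ≠ b
  ne_ac : a ≠ c
  ne_bc : b ≠ c

namespace Sizes

variable {a b c : ℕ} (D : Sizes G a b c)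
include D

theorem one_lt {m : ℕ} (h : ∃ g : G, g ≠ 1 ∧ cs g = m) : 1 < m := by
  obtain ⟨g, hg, rfl⟩ := h
  have := GroupStructure3.ClassGraph.cs_ne_zero g
  have : cs g ≠ 1 := fun h => not_center D.ncomm hg (cs_eq_one_iff.1 h)
  omega

omit [IsSimpleGroup G] in
theorem cop : a.Coprime c := by
  refine Nat.coprime_of_dvd fun p hp h1 h2 => ?_
  haveI := Fact.mk hp
  obtain ⟨g, -, hg⟩ := D.ea
  have hpG : p ∣ Nat.card G := h1.trans (hg ▸ ⟨_, (card_cent_mul_cs g).symm.trans (mul_comm _ _)⟩)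
  obtain ⟨P⟩ : Nonempty (Sylow p G) := inferInstance
  obtain ⟨z, -, hz1, -, hz⟩ := exists_center_sylow hpG P
  rcases D.vals z hz1 with h | h | h <;> rw [h] at hz
  exacts [hz h1, hz (h1.trans D.dvd_ab), hz h2]

theorem not_commute {u w : G} (hu : cs u = a) (hw : cs w = c) : ¬ Commute u w := by
  intro h
  have hcop : (cs u).Coprime (cs w) := by rw [hu, hw]; exact D.cop
  have hu1 : u ≠ 1 := fun e => by
    have := D.one_lt D.ea
    rw [← hu, e, cs_eq_one_iff.2 (one_mem _)] at this; omega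
  have hle : normalClosure ({u} : Set G) ≤ cent w := by
    rw [normalClosure, closure_le]
    intro x hx
    obtain ⟨u', hu', hgx⟩ := Group.mem_conjugatesOfSet_iff.1 hx
    rw [Set.mem_singleton_iff.1 hu'] at hgx
    obtain ⟨g, rfl⟩ := isConj_iff.1 hgx
    obtain ⟨p, hp, q, hq, rfl⟩ := exists_mul_of_coprime (A := cent u) (B := cent w) hcop g
    have e : p * q * u * (p * q)⁻¹ = p * u * p⁻¹ := by
      rw [mul_assoc p q u, (mem_cent.1 hq).eq]; group
    rw [SetLike.mem_coe, e]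
    exact mul_mem (mul_mem hp (mem_cent.2 h)) (inv_mem hp)
  rcases (normalClosure_normal (s := ({u} : Set G))).eq_bot_or_eq_top with hb | ht
  · exact hu1 (mem_bot.1 (hb ▸ subset_normalClosure rfl))
  · have hcw : cs w = 1 := index_eq_one.2 (top_le_iff.1 (ht ▸ hle))
    have := D.one_lt D.ec
    omega

theorem one_lt_a : 1 < a := D.one_lt D.ea

theorem min_b {z g : G} (hz : cs z = b) (hg : g ≠ 1) (hle : cent g ≤ cent z) : cent g = cent z := by
  have hd : b ∣ cs g := hz ▸ index_dvd_of_le hle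
  refine cent_eq_of_cs_eq hle ?_
  rcases D.vals g hg with h | h | h <;> rw [h] at hd ⊢
  · exact absurd (Nat.dvd_antisymm D.dvd_ab hd) D.ne_ab
  · exact hz.symm
  · exact absurd (D.cop.eq_one_of_dvd (D.dvd_ab.trans hd)) D.one_lt_a.ne'

theorem cent_le_of_b {z h : G} (hz : cs z = b) (hc : Commute h z)
    (hcop : (orderOf z).Coprime (orderOf h)) : cent z ≤ cent h := by
  have hz1 : z ≠ 1 := fun e => by
    have := D.one_lt D.eb
    rw [← hz, e, cs_eq_one_iff.2 (one_mem _)] at this; omega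
  have e : cent (z * h) = cent z ⊓ cent h := centralizer_mul_eq hc.symm hcop
  exact (D.min_b hz (ne_one_of_mul hz1 hcop) (e.le.trans inf_le_left)).ge.trans (e.le.trans inf_le_right)

theorem exists_prime_component {m : ℕ} {g : G} (hg : g ≠ 1) (hm : cs g = m)
    (huniq : ∀ k : ℕ, cs (g ^ k) ∣ m → g ^ k ≠ 1 → cs (g ^ k) = m) :
    ∃ l : ℕ, l.Prime ∧ ∃ x : G, IsL l x ∧ x ≠ 1 ∧ cs x = m := by
  obtain ⟨l, hl, k, hk, hkc⟩ := GStructB.TwoSizes.exists_primary (not_center D.ncomm hg)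
  have h1 : g ^ k ≠ 1 := fun e => hkc (e ▸ one_mem _)
  exact ⟨l, hl, _, hk, h1, huniq k (hm ▸ cs_pow_dvd g k) h1⟩

theorem exists_Y : ∃ l : ℕ, l.Prime ∧ ∃ Y : G, IsL l Y ∧ Y ≠ 1 ∧ cs Y = a := by
  obtain ⟨g, hg, hga⟩ := D.ea
  refine D.exists_prime_component hg hga fun k hd h1 => ?_
  rcases D.vals _ h1 with h | h | h <;> rw [h] at hd ⊢
  · exact absurd (Nat.dvd_antisymm D.dvd_ab hd) D.ne_ab
  · exact absurd (D.cop.symm.eq_one_of_dvd hd) (D.one_lt D.ec).ne'

theorem exists_W : ∃ l : ℕ, l.Prime ∧ ∃ W : G, IsL l W ∧ W ≠ 1 ∧ cs W = c := by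
  obtain ⟨g, hg, hgc⟩ := D.ec
  refine D.exists_prime_component hg hgc fun k hd h1 => ?_
  rcases D.vals _ h1 with h | h | h <;> rw [h] at hd ⊢
  · exact absurd (D.cop.eq_one_of_dvd hd) D.one_lt_a.ne'
  · exact absurd (D.cop.eq_one_of_dvd (D.dvd_ab.trans hd)) D.one_lt_a.ne'

theorem split {p : ℕ} (hp : p.Prime) (hpG : p ∣ Nat.card G) : p ∣ a ∨ p ∣ c := by
  haveI := Fact.mk hp
  by_contra hno
  push Not at hno
  obtain ⟨l, hl, Y, hY, -, hYa⟩ := D.exists_Y
  obtain ⟨r, hr, W, hW, -, hWc⟩ := D.exists_W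
  obtain ⟨P⟩ : Nonempty (Sylow p G) := inferInstance
  obtain ⟨d, hd⟩ := exists_conj_centralising (g := Y) (by rw [hYa]; exact hno.1) P
  obtain ⟨e, he⟩ := exists_conj_centralising (g := W) (by rw [hWc]; exact hno.2) P
  replace hYa : cs (d * Y * d⁻¹) = a := (cs_conj _ _).trans hYa
  replace hWc : cs (e * W * e⁻¹) = c := (cs_conj _ _).trans hWc
  replace hY := GStructB.TwoSizes.isL_conj hY d
  replace hW := GStructB.TwoSizes.isL_conj hW e
  have hn := D.not_commute hYa hWc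
  obtain ⟨z, hzP, hz1, hPz, -⟩ := exists_center_sylow hpG P
  have hzY : Commute z (d * Y * d⁻¹) := mem_cent.1 (hd hzP)
  have hzW : Commute z (e * W * e⁻¹) := mem_cent.1 (he hzP)
  have hzl : IsL p z := GStructB.TwoSizes.isL_of_mem P.2 hzP
  rcases D.vals z hz1 with h | h | h
  · exact D.not_commute h hWc hzW
  · by_cases hlp : l = p
    · subst hlp
      have hYP := mem_of_le_cent P hY hd
      by_cases hrp : r = l
      · subst hrp
        exact hn (mem_cent.1 (he hYP))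
      · have hle := D.cent_le_of_b h hzW.symm (GStructB.TwoSizes.coprime_of_isL hp hr (Ne.symm hrp) hzl hW)
        exact hn (mem_cent.1 (hle (mem_cent.2 hzY.symm)))
    · have hle := D.cent_le_of_b h hzY.symm (GStructB.TwoSizes.coprime_of_isL hp hl (Ne.symm hlp) hzl hY)
      exact hn (mem_cent.1 (hle (mem_cent.2 hzW.symm))).symm
  · exact D.not_commute hYa h hzY.symm

theorem no_part {α γ : ℕ} (hN : ∀ u w : G, cs u = α → cs w = γ → ¬ Commute u w)
    (hvals : ∀ g : G, g ≠ 1 → cs g = α ∨ cs g = b ∨ cs g = γ) {p : ℕ} (hp : p.Prime)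
    (hpγ : ¬ p ∣ γ) {l : ℕ} (hl : l.Prime) {Y : G} (hY : IsL l Y) (hYa : cs Y = α) {W : G}
    (hW : cs W = γ) : ¬ p ∣ Nat.card (cent Y) := by
  haveI := Fact.mk hp
  intro hdvd
  have hlp : l ≠ p := by
    rintro rfl
    obtain ⟨k, hk⟩ := hY
    obtain ⟨P, hP⟩ := (IsPGroup.of_card (n := k) (by rw [Nat.card_zpowers, hk]) :
      IsPGroup l (zpowers Y)).exists_le_sylow
    obtain ⟨d, hd⟩ := exists_conj_centralising (g := W) (by rw [hW]; exact hpγ) P
    exact hN Y _ hYa ((cs_conj _ _).trans hW) (mem_cent.1 (hd (hP (mem_zpowers Y))))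
  obtain ⟨u, hu⟩ := exists_prime_orderOf_dvd_card' (G := cent Y) p hdvd
  rw [← Subgroup.orderOf_coe] at hu
  have huY : Commute (u : G) Y := mem_cent.1 u.2
  obtain ⟨P, hP⟩ := (IsPGroup.of_card (n := 1) (by rw [Nat.card_zpowers, hu, pow_one]) :
    IsPGroup p (zpowers (u : G))).exists_le_sylow
  obtain ⟨d, hd⟩ := exists_conj_centralising (g := W) (by rw [hW]; exact hpγ) P
  have huW : Commute (u : G) (d * W * d⁻¹) := mem_cent.1 (hd (hP (mem_zpowers _)))
  rcases hvals _ (ne_one_of_orderOf_prime hp hu) with h | h | h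
  · exact hN _ _ h ((cs_conj _ _).trans hW) huW
  · refine hN Y (d * W * d⁻¹) hYa ((cs_conj _ _).trans hW) ?_
    exact (mem_cent.1 (D.cent_le_of_b h huY.symm
      (GStructB.TwoSizes.coprime_of_isL hp hl (Ne.symm hlp) ⟨1, by rw [hu, pow_one]⟩ hY)
      (mem_cent.2 huW.symm))).symm
  · exact hN Y _ hYa h huY.symm

theorem card_eq : Nat.card G = a * c ∧ ∃ (l : ℕ) (W : G), l.Prime ∧ IsL l W ∧ W ≠ 1 ∧ cs W = c ∧
    Nat.card (cent W) = a := by
  obtain ⟨l, hl, Y, hY, -, hYa⟩ := D.exists_Y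
  obtain ⟨r, hr, W, hW, hW1, hWc⟩ := D.exists_W
  have hYn : ∀ p, p.Prime → p ∣ Nat.card (cent Y) → p ∣ c := fun p hp h => by
    by_contra hc
    exact D.no_part (α := a) (γ := c) (fun u w => D.not_commute) D.vals hp hc hl hY hYa hWc h
  have hWn : ∀ p, p.Prime → p ∣ Nat.card (cent W) → p ∣ a := fun p hp h => by
    by_contra ha
    refine D.no_part (α := c) (γ := a) (fun u w hu hw h => D.not_commute hw hu h.symm)
      (fun g hg => ?_) hp ha hr hW hWc hYa h
    rcases D.vals g hg with h | h | h <;> simp [h]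
  have hWc' : (Nat.card (cent W)).Coprime c := Nat.coprime_of_dvd fun p hp h1 h2 =>
    hp.not_dvd_one (D.cop ▸ Nat.dvd_gcd (hWn p hp h1) h2)
  have hYW : (Nat.card (cent W)).Coprime (Nat.card (cent Y)) := Nat.coprime_of_dvd fun p hp h1 h2 =>
    hp.not_dvd_one (D.cop ▸ Nat.dvd_gcd (hWn p hp h1) (hYn p hp h2))
  have e : Nat.card (cent W) * c = Nat.card (cent Y) * a := by
    rw [← hWc, ← hYa, card_cent_mul_cs, card_cent_mul_cs]
  have hWa : Nat.card (cent W) = a := Nat.dvd_antisymm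
    (hYW.dvd_of_dvd_mul_left ⟨c, e.symm⟩) (D.cop.dvd_of_dvd_mul_right ⟨Nat.card (cent Y), by rw [e, mul_comm]⟩)
  exact ⟨by rw [← card_cent_mul_cs W, hWa, hWc], r, W, hr, hW, hW1, hWc, hWa⟩

theorem cs_c_of_order {g : G} (hg : g ≠ 1) (h : ¬ (orderOf g).Coprime a) : cs g = c := by
  by_contra hne
  refine h ?_
  have e := card_cent_mul_cs g
  rw [D.card_eq.1] at e
  have hd : Nat.card (cent g) ∣ c := by
    rcases D.vals g hg with h' | h' | h'
    · rw [h', mul_comm a c] at e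
      exact ⟨1, by rw [mul_one]; exact (Nat.eq_of_mul_eq_mul_right (by have := D.one_lt_a; omega) e).symm⟩
    · obtain ⟨m, hm⟩ := D.dvd_ab
      rw [h', hm] at e
      refine ⟨m, Nat.eq_of_mul_eq_mul_left (show 0 < a by have := D.one_lt_a; omega) ?_⟩
      rw [← e]; ring
    · exact absurd h' hne
  exact (D.cop.symm.coprime_dvd_left ((Subgroup.orderOf_dvd_natCard _ (self_mem_cent g)).trans hd))

theorem card_cent_c {g : G} (h : cs g = c) : Nat.card (cent g) = a := by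
  have e := card_cent_mul_cs g
  rw [h, D.card_eq.1] at e
  exact Nat.eq_of_mul_eq_mul_right (by have := D.one_lt D.ec; omega) e

theorem qc_closed {u : G} (hu : cs u = c) (g : G) (hc : Commute g u) (hg : g ≠ 1) : cs g = c := by
  refine D.cs_c_of_order hg fun h => hg (orderOf_eq_one_iff.1 ?_)
  have h1 : orderOf g ∣ a := by
    rw [← D.card_cent_c hu]
    exact Subgroup.orderOf_dvd_natCard _ (mem_cent.2 hc)
  exact Nat.eq_one_of_dvd_coprimes h dvd_rfl h1

theorem qc_one : (1 : G) ∉ {g : G | cs g = c} := fun h => by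
  have := D.one_lt D.ec
  rw [Set.mem_ofPred_eq, cs_eq_one_iff.2 (one_mem _)] at h; omega

omit [IsSimpleGroup G] D in
theorem qc_min : ∀ g ∈ {g : G | cs g = c}, ∀ h ∈ {g : G | cs g = c}, cent g ≤ cent h → cent g = cent h :=
  fun _ hg _ hh hle => cent_eq_of_cs_eq hle (hg.trans hh.symm)

theorem abCent_of_even (h2 : 2 ∣ a) {t : G} (ht : orderOf t = 2) : AbCent t := by
  refine abCent_involution (Q := {g : G | cs g = c}) D.qc_one
    (fun u hu g hg hg1 => D.qc_closed hu g hg hg1) qc_min ?_ ht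
  exact D.cs_c_of_order (ne_one_of_orderOf_prime Nat.prime_two ht) fun h =>
    absurd (ht ▸ Nat.eq_one_of_dvd_coprimes h (dvd_refl _) (ht.symm ▸ h2)) (by norm_num)

theorem involution_ne_c (h2 : ¬ 2 ∣ a) {t : G} (ht : orderOf t = 2) : cs t ≠ c := fun h => h2 (by
  rw [← D.card_cent_c h, ← ht]
  exact Subgroup.orderOf_dvd_natCard _ (self_mem_cent t))

theorem involution_ne_a (h2 : ¬ 2 ∣ a) {t : G} (ht : orderOf t = 2) : cs t ≠ a := by
  intro hta
  haveI := Fintype.ofFinite G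
  obtain ⟨hG, l, W, hl, hW, hW1, hWc, hWa⟩ := D.card_eq
  haveI := Fact.mk hl
  have ht1 := ne_one_of_orderOf_prime Nat.prime_two ht
  have hlW : ∀ p, p.Prime → p ∣ orderOf W → p = l := fun p hp h => by
    obtain ⟨k, hk⟩ := hW
    exact (Nat.prime_dvd_prime_iff_eq hp hl).1 (hp.dvd_of_dvd_pow (hk ▸ h))
  -- the index of `cent t` is not a prime power
  obtain ⟨q, hq, hqa, hql⟩ : ∃ q : ℕ, q.Prime ∧ q ∣ a ∧ q ≠ l := by
    by_contra hno
    push Not at hno
    obtain ⟨k, hk⟩ : ∃ k, a = l ^ k := ⟨_, Nat.eq_prime_pow_of_unique_prime_dvd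
      (by have := D.one_lt_a; omega) (fun {d} hd hda => hno d hd hda)⟩
    exact not_prime_card D.ncomm (Characters.simple_prime_power_class hl ht1 (hta.trans hk))
  haveI := Fact.mk hq
  obtain ⟨h, hh⟩ := exists_prime_orderOf_dvd_card' (G := cent W) q (hWa.symm ▸ hqa)
  rw [← Subgroup.orderOf_coe] at hh
  have hab : AbCent W := abCent_of_coprime (Q := {g : G | cs g = c}) D.qc_one
    (fun u hu g hg hg1 => D.qc_closed hu g hg hg1) qc_min (p := l) hWc hW
    (ne_one_of_orderOf_prime hq hh) (mem_cent.1 h.2) fun hd => hql ((Nat.prime_dvd_prime_iff_eq hl hq).1 (hh ▸ hd)).symm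
  have hcc : CC (cent W) := by
    refine ⟨fun x y => Subtype.ext (hab x x.2 y y.2).eq, fun g hg hg1 => ?_⟩
    have hgc : cs g = c := D.qc_closed hWc g (mem_cent.1 hg) hg1
    refine (eq_of_le_of_card_ge (fun x hx => mem_cent.2 (hab x hx g hg)) (le_of_eq ?_)).symm
    rw [D.card_cent_c hgc, hWa]
  have hKc : Nat.card (cent t) = c := by
    have e := card_cent_mul_cs t
    rw [hta, hG, mul_comm a c] at e
    exact Nat.eq_of_mul_eq_mul_right (by have := D.one_lt_a; omega) e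
  have hiso := isolated_of_cc (H := cent W) (K := cent t) (hta.trans hWa.symm)
    (by rw [hKc, hWa]; exact D.cop.symm) hcc ht rfl (not_center D.ncomm ht1)
  have hO : Cfsg.oddCore G = ⊥ := ZStar.Consequences.oddCore_eq_bot fun N hN hodd => by
    rcases hN.eq_bot_or_eq_top with hb | htop
    · exact hb
    · exfalso
      rw [htop, card_top] at hodd
      exact (Nat.not_even_iff_odd.2 hodd) (even_iff_two_dvd.2 (two_dvd_card D.ncomm))
  exact not_center D.ncomm ht1 (ZStar.Main.mem_center_of_isolated hO hiso)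

theorem abCent_of_odd (h2 : ¬ 2 ∣ a) {t : G} (ht : orderOf t = 2) : AbCent t := by
  haveI : Fact (Nat.Prime 2) := ⟨Nat.prime_two⟩
  have hinv : ∀ s : G, orderOf s = 2 → cs s = b := fun s hs => by
    rcases D.vals s (ne_one_of_orderOf_prime Nat.prime_two hs) with h | h | h
    · exact absurd h (D.involution_ne_a h2 hs)
    · exact h
    · exact absurd h (D.involution_ne_c h2 hs)
  have hbodd : ¬ 2 ∣ b := by
    obtain ⟨S⟩ : Nonempty (Sylow 2 G) := inferInstance
    obtain ⟨z, hzS, hz1, -, hz⟩ := exists_center_sylow (two_dvd_card D.ncomm) S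
    obtain ⟨k, hk⟩ := GStructB.TwoSizes.isL_of_mem S.2 hzS
    have hk0 : k ≠ 0 := fun h0 => hz1 (orderOf_eq_one_iff.1 (by rw [hk, h0, pow_zero]))
    have ho : orderOf (z ^ 2 ^ (k - 1)) = 2 := by
      have : 2 ^ k = 2 ^ (k - 1) * 2 := by rw [← pow_succ, Nat.sub_add_cancel (Nat.pos_of_ne_zero hk0)]
      rw [orderOf_pow' z (pow_ne_zero _ two_ne_zero), hk, this, Nat.gcd_eq_right (dvd_mul_right _ _),
        Nat.mul_div_cancel_left _ (pow_pos two_pos _)]
    exact fun hb => hz (((hinv _ ho).symm ▸ hb : 2 ∣ cs (z ^ 2 ^ (k - 1))).trans (cs_pow_dvd z _))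
  have htwo : ∀ v : G, IsL 2 v → v ≠ 1 → cs v = b := by
    intro v ⟨k, hk⟩ hv
    have hk0 : k ≠ 0 := fun h0 => hv (orderOf_eq_one_iff.1 (by rw [hk, h0, pow_zero]))
    have ho : orderOf (v ^ 2 ^ (k - 1)) = 2 := by
      have : 2 ^ k = 2 ^ (k - 1) * 2 := by rw [← pow_succ, Nat.sub_add_cancel (Nat.pos_of_ne_zero hk0)]
      rw [orderOf_pow' v (pow_ne_zero _ two_ne_zero), hk, this, Nat.gcd_eq_right (dvd_mul_right _ _),
        Nat.mul_div_cancel_left _ (pow_pos two_pos _)]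
    have hd : b ∣ cs v := hinv _ ho ▸ cs_pow_dvd v _
    rcases D.vals v hv with h | h | h <;> rw [h] at hd ⊢
    · exact absurd (Nat.dvd_antisymm D.dvd_ab hd) D.ne_ab
    · exact absurd (D.cop.eq_one_of_dvd (D.dvd_ab.trans hd)) D.one_lt_a.ne'
  obtain ⟨S₀⟩ : Nonempty (Sylow 2 G) := inferInstance
  obtain ⟨d, hd⟩ := exists_conj_centralising (g := t) (by rw [hinv t ht]; exact hbodd) S₀
  -- move back, so that `S` centralises `t`
  obtain ⟨S, hS⟩ : ∃ S : Sylow 2 G, (S : Subgroup G) ≤ cent t := by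
    refine ⟨d⁻¹ • S₀, fun g hg => ?_⟩
    rw [Sylow.coe_subgroup_smul, mem_pointwise_smul_iff_inv_smul_mem] at hg
    have hg' : d * g * d⁻¹ ∈ cent (d * t * d⁻¹) := hd (by simpa [MulAut.smul_def] using hg)
    have := GStructB.TwoSizes.conj_mem_cent (c := d⁻¹) hg'
    rwa [show d⁻¹ * (d * g * d⁻¹) * d⁻¹⁻¹ = g by group,
      show d⁻¹ * (d * t * d⁻¹) * d⁻¹⁻¹ = t by group] at this
  have hScomm : ∀ x ∈ (S : Subgroup G), ∀ y ∈ (S : Subgroup G), Commute x y := by
    refine comm_of_power_trick S (fun x hx hx1 => ?_) fun x hx j hj hSj => ?_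
    · have hxl := GStructB.TwoSizes.isL_of_mem S.2 hx
      obtain ⟨e, he⟩ := exists_conj_centralising (g := x) (by rw [htwo x hxl hx1]; exact hbodd) S
      exact ⟨e, mem_of_le_cent S (GStructB.TwoSizes.isL_conj hxl e) he, he⟩
    · have hx1 : x ≠ 1 := fun e => hj (by rw [e, one_pow])
      rw [D.min_b (htwo _ (GStructB.TwoSizes.isL_of_mem S.2 (pow_mem hx j)) hj) hx1
        (GStructB.TwoSizes.cent_le_pow x j)]
      exact hSj
  intro x hx y hy
  refine Subtype.ext_iff.1 (commute_of_odd_central (G := cent t) (S.subtype hS) ?_ ?_ ⟨x, hx⟩ ⟨y, hy⟩).eq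
  · intro u hu v hv
    exact Subtype.ext (hScomm _ (Subgroup.mem_subgroupOf.1 hu) _ (Subgroup.mem_subgroupOf.1 hv)).eq
  · intro h hodd
    rw [← Subgroup.orderOf_coe] at hodd
    have hle := D.cent_le_of_b (hinv t ht) (mem_cent.1 h.2)
      (by rw [ht]; exact Nat.coprime_two_left.2 hodd)
    exact mem_center_iff.2 fun g => Subtype.ext (mem_cent.1 (hle g.2)).eq

theorem abCent {t : G} (ht : orderOf t = 2) : AbCent t := by
  by_cases h2 : 2 ∣ a
  · exact D.abCent_of_even h2 ht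
  · exact D.abCent_of_odd h2 ht

end Sizes

/-- The forward direction. -/
theorem forward (hG : ¬ IsMulCommutative G)
    (h3 : Set.ncard {m : ℕ | ∃ x : G, x ∉ center G ∧ m = cs x} = 3) :
    ∃ (m : ℕ) (F : Type) (_ : Field F) (_ : Fintype F), 2 ≤ m ∧ Fintype.card F = 2 ^ m ∧
      Nonempty (G ≃* Matrix.ProjectiveSpecialLinearGroup (Fin 2) F) := by
  by_cases hno : ∀ g h : G, g ≠ 1 → h ≠ 1 → cent g ≤ cent h → cent g = cent h
  · refine psl_of_abCent hG fun t ht => ?_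
    exact abCent_involution (Q := {g : G | g ≠ 1}) (fun h => h rfl) (fun _ _ _ _ h => h)
      (fun g hg h hh => hno g h hg hh) (ne_one_of_orderOf_prime Nat.prime_two ht) ht
  push Not at hno
  obtain ⟨x, y, hx, hy, hle, hne⟩ := hno
  set V := {m : ℕ | ∃ x : G, x ∉ center G ∧ m = cs x} with hV
  have hmem : ∀ g : G, g ≠ 1 → cs g ∈ V := fun g hg => ⟨g, not_center hG hg, rfl⟩
  have hab : cs y ≠ cs x := fun e => hne (cent_eq_of_cs_eq hle e.symm)
  have hsub : ({cs y, cs x} : Set ℕ) ⊆ V := Set.pair_subset (hmem y hy) (hmem x hx)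
  have hdiff : (V \ {cs y, cs x}).ncard = 1 := by
    rw [Set.ncard_sdiff hsub, h3, Set.ncard_pair hab]
  obtain ⟨c, hc⟩ := Set.ncard_eq_one.1 hdiff
  have hcm : c ∈ V \ {cs y, cs x} := hc ▸ rfl
  obtain ⟨⟨w, hw, rfl⟩, hcn⟩ := hcm
  simp only [Set.mem_insert_iff, Set.mem_singleton_iff, not_or] at hcn
  have D : Sizes G (cs y) (cs x) (cs w) := by
    refine ⟨hG, fun g hg => ?_, ⟨y, hy, rfl⟩, ⟨x, hx, rfl⟩, ⟨w, fun e => hw (e ▸ one_mem _), rfl⟩,
      index_dvd_of_le hle, hab, Ne.symm hcn.1, Ne.symm hcn.2⟩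
    by_cases h : cs g ∈ ({cs y, cs x} : Set ℕ)
    · rcases h with h | h
      · exact Or.inl h
      · exact Or.inr (Or.inl h)
    · exact Or.inr (Or.inr (hc.le ⟨hmem g hg, h⟩))
  have hpsl := psl_of_abCent hG fun t ht => D.abCent ht
  exact absurd (cent_eq_of_psl hpsl hy hle) hne

end Cfsg.Agent.ClassRankThree
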