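import Mathlib
import Cfsg.Agent.GStructB.TwoSizes
import Cfsg.Agent.GroupStructure3.ClassGraph.Basic

/-! Centralisers which do not contain one another are abelian at the prime two. -/

set_option autoImplicit false
set_option linter.style.haveILetI false

namespace Cfsg.Agent.ClassRankThree

open Subgroup
open GroupStructure3.ClassGraph (cs centralizer_mul_eq centralizer_pow_le)
open GStructB.TwoSizes (cent IsL mem_cent)

variable {G : Type*} [Group G]

/-- The centraliser of `g` is abelian. -/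
def AbCent (g : G) : Prop := ∀ a ∈ cent g, ∀ b ∈ cent g, Commute a b

theorem ne_one_of_mul {u h : G} (hu : u ≠ 1) (hc : (orderOf u).Coprime (orderOf h)) : u * h ≠ 1 := by
  intro e
  have : h = u⁻¹ := eq_inv_of_mul_eq_one_right e
  rw [this, orderOf_inv, Nat.coprime_self, orderOf_eq_one_iff] at hc
  exact hu hc

theorem ne_one_of_orderOf_prime {g : G} {p : ℕ} (hp : p.Prime) (h : orderOf g = p) : g ≠ 1 := by
  intro e
  rw [e, orderOf_one] at h
  exact hp.ne_one h.symm

/-- An element of `l`-power order centralising a Sylow `l`-subgroup lies in it. -/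
theorem mem_of_le_cent [Finite G] {l : ℕ} [Fact l.Prime] (P : Sylow l G) {x : G} (hx : IsL l x)
    (h : (P : Subgroup G) ≤ cent x) : x ∈ (P : Subgroup G) := by
  obtain ⟨k, hk⟩ := hx
  have hZ : IsPGroup l (zpowers x) := IsPGroup.of_card (n := k) (by rw [Nat.card_zpowers, hk])
  have hle : zpowers x ≤ normalizer ((P : Subgroup G) : Set G) := by
    rw [zpowers_le]
    refine mem_normalizer_iff.2 fun q => ?_
    constructor
    · intro hq
      rwa [show x * q * x⁻¹ = q by rw [← (mem_cent.1 (h hq)).eq, mul_inv_cancel_right]]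
    · intro hq
      have hcm := (mem_cent.1 (h hq)).eq
      have : x * q * x⁻¹ = q := by
        have e : q * x = x * q := by
          calc q * x = x⁻¹ * (x * q * x⁻¹ * x) * x := by group
            _ = x⁻¹ * (x * (x * q * x⁻¹)) * x := by rw [hcm]
            _ = x * q := by group
        rw [← e, mul_inv_cancel_right]
      rwa [this] at hq
  have hsup := IsPGroup.to_sup_of_normal_right' hZ P.2 hle
  rw [← P.3 hsup le_sup_right]
  exact le_sup_left (a := zpowers x) (mem_zpowers x)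

/-- A nilpotent-type criterion: every element central or of prime power order modulo the centre. -/
theorem commute_of_odd_central [Finite G] (S : Sylow 2 G)
    (hS : ∀ a ∈ (S : Subgroup G), ∀ b ∈ (S : Subgroup G), Commute a b)
    (hodd : ∀ h : G, Odd (orderOf h) → h ∈ center G) (a b : G) : Commute a b := by
  haveI : Fact (Nat.Prime 2) := ⟨Nat.prime_two⟩
  let f := QuotientGroup.mk' (center G)
  have hp : IsPGroup 2 (G ⧸ center G) := by
    intro q
    obtain ⟨g, rfl⟩ := QuotientGroup.mk'_surjective (center G) q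
    obtain ⟨k, s, hks, hs, -⟩ := GStructB.PElements.exists_split 2 g
    refine ⟨k, ?_⟩
    rw [← map_pow]
    refine (QuotientGroup.eq_one_iff _).2 (hodd _ ?_)
    have h1 : orderOf (g ^ 2 ^ k) ∣ s :=
      orderOf_dvd_of_pow_eq_one (by rw [← pow_mul, ← hks, pow_orderOf_eq_one])
    exact (Nat.odd_iff.2 (Nat.two_dvd_ne_zero.1 hs)).of_dvd_nat h1
  have hsur := QuotientGroup.mk'_surjective (center G)
  have htop : ((S.mapSurjective hsur : Sylow 2 (G ⧸ center G)) : Subgroup (G ⧸ center G)) = ⊤ :=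
    ((S.mapSurjective hsur).3 (IsPGroup.to_subgroup hp ⊤) le_top).symm
  have hdec : ∀ g : G, ∃ s ∈ (S : Subgroup G), ∃ z ∈ center G, g = s * z := by
    intro g
    have hg : f g ∈ ((S.mapSurjective hsur : Sylow 2 (G ⧸ center G)) : Subgroup (G ⧸ center G)) := by
      rw [htop]; exact mem_top _
    obtain ⟨s, hs, e⟩ := hg
    exact ⟨s, hs, s⁻¹ * g, QuotientGroup.eq.1 e, by group⟩
  obtain ⟨s, hs, z, hz, rfl⟩ := hdec a
  obtain ⟨s', hs', z', hz', rfl⟩ := hdec b
  have hz1 : ∀ x, Commute z x := fun x => (mem_center_iff.1 hz x).symm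
  have hz2 : ∀ x, Commute x z' := fun x => mem_center_iff.1 hz' x
  exact ((hS s hs s' hs').mul_right (hz2 s)).mul_left (hz1 _)

/-- A Sylow two-subgroup all of whose elements are conjugate into its centre, powers of outside
elements staying outside, is abelian. -/
theorem comm_of_power_trick [Finite G] (S : Sylow 2 G)
    (hconj : ∀ x ∈ (S : Subgroup G), x ≠ 1 → ∃ c : G, c * x * c⁻¹ ∈ (S : Subgroup G) ∧
      (S : Subgroup G) ≤ cent (c * x * c⁻¹))
    (hpow : ∀ x ∈ (S : Subgroup G), ∀ j : ℕ, x ^ j ≠ 1 → (S : Subgroup G) ≤ cent (x ^ j) →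
      (S : Subgroup G) ≤ cent x) :
    ∀ a ∈ (S : Subgroup G), ∀ b ∈ (S : Subgroup G), Commute a b := by
  haveI : Fact (Nat.Prime 2) := ⟨Nat.prime_two⟩
  classical
  by_contra hnc
  push Not at hnc
  obtain ⟨x, hx, y, hy, hxy⟩ := hnc
  have hxc : ¬ (S : Subgroup G) ≤ cent x := fun h => hxy (mem_cent.1 (h hy)).symm
  have hx1 : x ≠ 1 := fun e => hxy (e ▸ Commute.one_left y)
  haveI := Fintype.ofFinite G
  let Zs : Finset G := Finset.univ.filter fun z => z ∈ (S : Subgroup G) ∧ (S : Subgroup G) ≤ cent z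
  obtain ⟨w, hw, hmax⟩ := Zs.exists_max_image orderOf
    ⟨1, Finset.mem_filter.2 ⟨Finset.mem_univ _, one_mem _, fun s _ => mem_cent.2 (Commute.one_right s)⟩⟩
  have hwm := (Finset.mem_filter.1 hw).2
  obtain ⟨k, hk⟩ := GStructB.PElements.exists_orderOf_eq S.2 hwm.1
  have hle : ∀ g ∈ (S : Subgroup G), orderOf g ∣ 2 ^ k := by
    intro g hg
    by_cases hg1 : g = 1
    · rw [hg1, orderOf_one]; exact one_dvd _
    obtain ⟨c, hc, hcS⟩ := hconj g hg hg1
    obtain ⟨j, hj⟩ := GStructB.PElements.exists_orderOf_eq S.2 hc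
    have h1 : orderOf (c * g * c⁻¹) ≤ orderOf w := hmax _ (Finset.mem_filter.2 ⟨Finset.mem_univ _, hc, hcS⟩)
    have h2 : orderOf (c * g * c⁻¹) = orderOf g :=
      orderOf_injective (MulAut.conj c).toMonoidHom (MulAut.conj c).injective g
    rw [hj, hk] at h1
    rw [← h2, hj]
    exact pow_dvd_pow 2 ((Nat.pow_le_pow_iff_right (le_refl 2)).1 h1)
  have hout : ∀ v ∈ (S : Subgroup G), ¬ (S : Subgroup G) ≤ cent v → orderOf v = 2 ^ k := by
    intro v hv hvc
    refine Nat.dvd_antisymm (hle v hv) (hk ▸ orderOf_dvd_of_pow_eq_one ?_)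
    have hcomm : Commute v w := mem_cent.1 (hwm.2 hv)
    by_contra hne
    have hpe : (v * w) ^ orderOf v = w ^ orderOf v := by
      rw [hcomm.mul_pow, pow_orderOf_eq_one, one_mul]
    refine hvc fun s hs => mem_cent.2 ?_
    have h3 := hpow (v * w) (mul_mem hv hwm.1) (orderOf v) (by rw [hpe]; exact hne)
      (by rw [hpe]; exact hwm.2.trans (GStructB.TwoSizes.cent_le_pow w _)) hs
    have h4 : Commute s (v * w * w⁻¹) := (mem_cent.1 h3).mul_right (mem_cent.1 (hwm.2 hs)).inv_right
    rwa [mul_inv_cancel_right] at h4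
  have hox := hout x hx hxc
  have hk1 : k ≠ 0 := by
    intro h0
    rw [h0, pow_zero, orderOf_eq_one_iff] at hox
    exact hx1 hox
  have hy2 : orderOf (x ^ 2 ^ (k - 1)) = 2 := by
    have : 2 ^ k = 2 ^ (k - 1) * 2 := by rw [← pow_succ, Nat.sub_add_cancel (Nat.pos_of_ne_zero hk1)]
    rw [orderOf_pow' x (pow_ne_zero _ two_ne_zero), hox, this, Nat.gcd_eq_right (dvd_mul_right _ _),
      Nat.mul_div_cancel_left _ (pow_pos two_pos _)]
  have hyc : ¬ (S : Subgroup G) ≤ cent (x ^ 2 ^ (k - 1)) := fun h =>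
    hxc (hpow x hx _ (ne_one_of_orderOf_prime Nat.prime_two hy2) h)
  have hk2 := hout _ (pow_mem hx _) hyc
  rw [hy2] at hk2
  have hsq : ∀ g ∈ (S : Subgroup G), g * g = 1 := fun g hg => by
    rw [← pow_two]
    exact orderOf_dvd_iff_pow_eq_one.1 (hk2 ▸ hle g hg)
  exact hxy (calc x * y = x * y * ((y * x) * (y * x)) := by rw [hsq _ (mul_mem hy hx), mul_one]
    _ = x * (y * y) * x * (y * x) := by group
    _ = y * x := by rw [hsq y hy, mul_one, hsq x hx, one_mul])

section Antichain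

variable {Q : Set G} (hone : (1 : G) ∉ Q) (hcl : ∀ u ∈ Q, ∀ g, Commute g u → g ≠ 1 → g ∈ Q)
  (hmin : ∀ g ∈ Q, ∀ h ∈ Q, cent g ≤ cent h → cent g = cent h)

include hone hcl hmin

theorem cent_eq_of_coprime {u h : G} (hu : u ∈ Q) (hh : h ≠ 1) (hc : Commute h u)
    (hcop : (orderOf u).Coprime (orderOf h)) : cent h = cent u := by
  have hu1 : u ≠ 1 := fun e => hone (e ▸ hu)
  have e : cent (u * h) = cent u ⊓ cent h := centralizer_mul_eq hc.symm hcop
  have hm : u * h ∈ Q := hcl u hu _ ((Commute.refl u).mul_left hc) (ne_one_of_mul hu1 hcop)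
  rw [← hmin _ hm _ (hcl u hu h hc hh) (e.le.trans inf_le_right),
    ← hmin _ hm _ hu (e.le.trans inf_le_left)]

theorem abCent_of_coprime [Finite G] {p : ℕ} [hp : Fact p.Prime] {u h : G} (hu : u ∈ Q) (hul : IsL p u)
    (hh : h ≠ 1) (hc : Commute h u) (hcop : ¬ p ∣ orderOf h) : AbCent u := by
  obtain ⟨n, hn⟩ := hul
  have key : ∀ g, Commute g u → ¬ p ∣ orderOf g → cent u ≤ cent g := by
    intro g hgu hg
    by_cases hg1 : g = 1
    · rw [hg1]; exact fun x _ => mem_cent.2 (Commute.one_right x)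
    · exact (cent_eq_of_coprime hone hcl hmin hu hg1 hgu
        (by rw [hn]; exact (hp.out.coprime_iff_not_dvd.2 hg).pow_left n)).ge
  have hhu : cent h = cent u := cent_eq_of_coprime hone hcl hmin hu hh hc
    (by rw [hn]; exact (hp.out.coprime_iff_not_dvd.2 hcop).pow_left n)
  have hhQ : h ∈ Q := hcl u hu h hc hh
  intro a ha b hb
  obtain ⟨k, s, hks, hs, hks'⟩ := GStructB.PElements.exists_split p a
  have h1 : ¬ p ∣ orderOf (a ^ p ^ k) := fun h' => hs (h'.trans
    (orderOf_dvd_of_pow_eq_one (by rw [← pow_mul, ← hks, pow_orderOf_eq_one])))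
  have hbs : Commute b (a ^ p ^ k) := mem_cent.1 (key _ ((mem_cent.1 ha).pow_left _) h1 hb)
  have hbp : Commute b (a ^ s) := by
    by_cases hv : a ^ s = 1
    · rw [hv]; exact Commute.one_right b
    have hvh : Commute (a ^ s) h := (mem_cent.1 (hhu ▸ ha : a ∈ cent h)).pow_left s
    have e : cent (a ^ s) = cent h := cent_eq_of_coprime hone hcl hmin hhQ hv hvh
      (by rw [hks']; exact ((hp.out.coprime_iff_not_dvd.2 hcop).pow_left k).symm)
    exact mem_cent.1 (e ▸ hhu ▸ hb : b ∈ cent (a ^ s))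
  have hab : (a : G) ∈ cent b := GroupStructure3.ClassGraph.mem_of_pow_mem
    ((hp.out.coprime_iff_not_dvd.2 hs).pow_left k) (mem_cent.2 hbs.symm) (mem_cent.2 hbp.symm)
  exact mem_cent.1 hab

theorem abCent_involution [Finite G] {t : G} (ht : t ∈ Q) (ho : orderOf t = 2) : AbCent t := by
  haveI : Fact (Nat.Prime 2) := ⟨Nat.prime_two⟩
  by_contra hna
  have hne : ∀ {u : G}, u ∈ Q → IsL 2 u → ¬ AbCent u → IsPGroup 2 (cent u) := by
    intro u hu hul hu' g
    obtain ⟨k, s, hks, hs, -⟩ := GStructB.PElements.exists_split 2 (g : G)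
    refine ⟨k, Subtype.ext ?_⟩
    by_contra hne
    push_cast at hne
    exact hu' (abCent_of_coprime hone hcl hmin hu hul hne ((mem_cent.1 g.2).pow_left _) fun h' =>
      hs (h'.trans (orderOf_dvd_of_pow_eq_one (by rw [← pow_mul, ← hks, pow_orderOf_eq_one]))))
  have htop : ∀ {u : G}, u ∈ Q → IsPGroup 2 (cent u) → ∃ T : Sylow 2 G, cent u = T := by
    intro u hu hP
    obtain ⟨T, hT⟩ := hP.exists_le_sylow
    have hTn : (T : Subgroup G) ≠ ⊥ := fun h => hone <| by
      have := hT (GStructB.TwoSizes.self_mem_cent u)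
      rw [h, mem_bot] at this
      exact this ▸ hu
    haveI : Nontrivial (T : Subgroup G) := (nontrivial_iff_ne_bot _).2 hTn
    haveI : Nontrivial (center (T : Subgroup G)) := T.2.center_nontrivial
    obtain ⟨z, hz⟩ := exists_ne (1 : center (T : Subgroup G))
    have hz1 : ((z : (T : Subgroup G)) : G) ≠ 1 := fun e => hz (Subtype.ext (Subtype.ext e))
    have hTz : (T : Subgroup G) ≤ cent ((z : (T : Subgroup G)) : G) := fun s hs => mem_cent.2
      (congrArg Subtype.val (mem_center_iff.1 z.2 ⟨s, hs⟩))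
    have hzu : Commute ((z : (T : Subgroup G)) : G) u :=
      (mem_cent.1 (hTz (hT (GStructB.TwoSizes.self_mem_cent u)))).symm
    exact ⟨T, le_antisymm hT ((hmin u hu _ (hcl u hu _ hzu hz1) (hT.trans hTz)) ▸ hTz)⟩
  obtain ⟨S, hS⟩ := htop ht (hne ht ⟨1, by rw [ho, pow_one]⟩ hna)
  have htS : t ∈ (S : Subgroup G) := hS ▸ GStructB.TwoSizes.self_mem_cent t
  have hxQ : ∀ {x : G}, x ∈ (S : Subgroup G) → x ≠ 1 → x ∈ Q := fun {x} hx hx1 =>
    hcl t ht x (mem_cent.1 (hS ▸ hx : x ∈ cent t)) hx1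
  refine hna ?_
  rw [AbCent, hS]
  refine comm_of_power_trick S (fun x hx hx1 => ?_) fun x hx j hj hSj => ?_
  · obtain ⟨T, hT⟩ := htop (hxQ hx hx1) (by
      by_cases hab : AbCent x
      · -- an abelian centraliser contains `t`, so lies in its centraliser
        refine S.2.to_le fun g hg => ?_
        rw [← hS]
        exact mem_cent.2 (hab g hg t (mem_cent.2 (mem_cent.1 (hS ▸ hx : x ∈ cent t)).symm))
      · exact hne (hxQ hx hx1) (GStructB.TwoSizes.isL_of_mem S.2 hx) hab)
    obtain ⟨c, hc⟩ := MulAction.exists_smul_eq G T S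
    refine ⟨c, ?_, ?_⟩
    · rw [← hc, Sylow.coe_subgroup_smul, show c * x * c⁻¹ = (MulAut.conj c) • x from rfl]
      exact smul_mem_pointwise_smul x (MulAut.conj c) _ (hT ▸ GStructB.TwoSizes.self_mem_cent x)
    · intro g hg
      rw [← hc, Sylow.coe_subgroup_smul, mem_pointwise_smul_iff_inv_smul_mem] at hg
      have hg' : c⁻¹ * g * c ∈ cent x := by rw [hT]; simpa [MulAut.smul_def] using hg
      have := GStructB.TwoSizes.conj_mem_cent (c := c) hg'
      rwa [show c * (c⁻¹ * g * c) * c⁻¹ = g by group] at this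
  · have hx1 : x ≠ 1 := fun e => hj (by rw [e, one_pow])
    rw [hmin x (hxQ hx hx1) _ (hxQ (pow_mem hx j) hj) (GStructB.TwoSizes.cent_le_pow x j)]
    exact hSj

end Antichain

end Cfsg.Agent.ClassRankThree
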