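import Cfsg.Agent.ClassRankThree.Partition
import Cfsg.Agent.S2202
import Cfsg.Agent.S0205
import Cfsg.Agent.CTGroup.EvenPSL
import Cfsg.Agent.Lib.Characters.Burnside
import Cfsg.Agent.Lib.Classical.GL2

/-! Simple groups with abelian involution centralisers. -/

set_option autoImplicit false
set_option linter.style.haveILetI false

namespace Cfsg.Agent.ClassRankThree

open Subgroup
open GStructB.TwoSizes (cent IsL mem_cent)

variable {G : Type*} [Group G] [Finite G] [IsSimpleGroup G] (hG : ¬ IsMulCommutative G)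

include hG

omit [Finite G] in
theorem center_eq_bot : center G = ⊥ := by
  rcases (inferInstance : (center G).Normal).eq_bot_or_eq_top with h | h
  · exact h
  · exact absurd ⟨⟨fun x y => (mem_center_iff.1 (h ▸ mem_top y) x)⟩⟩ hG

omit [Finite G] in
theorem not_center {g : G} (hg : g ≠ 1) : g ∉ center G := by
  rw [center_eq_bot hG, mem_bot]; exact hg

omit [Finite G] in
theorem not_solvable : ¬ Group.IsSolvable G := fun h => hG ⟨⟨fun a b => by
  have hc := (IsSimpleGroup.comm_iff_isSolvable (G := G)).2 h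
  exact hc a b⟩⟩

theorem two_dvd_card : 2 ∣ Nat.card G := by
  by_contra h
  exact not_solvable hG (Cfsg.Agent.S0205.result (Nat.not_even_iff_odd.1 fun he => h he.two_dvd))

omit [Finite G] [IsSimpleGroup G] in
theorem not_prime_card : ¬ (Nat.card G).Prime := fun h => by
  haveI := Fact.mk h
  haveI : IsCyclic G := isCyclic_of_prime_card rfl
  letI : CommGroup G := IsCyclic.commGroup
  exact hG ⟨⟨fun a b => mul_comm a b⟩⟩

theorem sylow_two_not_normal (S : Sylow 2 G) : ¬ (S : Subgroup G).Normal := by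
  haveI : Fact (Nat.Prime 2) := ⟨Nat.prime_two⟩
  intro hn
  rcases hn.eq_bot_or_eq_top with h | h
  · exact S.ne_bot_of_dvd_card (two_dvd_card hG) h
  · refine not_solvable hG ?_
    haveI := S.2.isNilpotent
    exact Group.isSolvable_of_surjective (f := (S : Subgroup G).subtype) fun x => ⟨⟨x, h ▸ mem_top x⟩, rfl⟩

theorem sylow_two_not_cyclic (S : Sylow 2 G) : ¬ IsCyclic (S : Subgroup G) := by
  haveI : Fact (Nat.Prime 2) := ⟨Nat.prime_two⟩
  intro hc
  have hp : (Nat.card G).minFac = 2 := (Nat.minFac_eq_two_iff _).2 (two_dvd_card hG)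
  have hNC := IsCyclic.normalizer_le_centralizer hp hc
  have hcompl := MonoidHom.ker_transferSylow_isComplement' S hNC
  rcases (MonoidHom.transferSylow S hNC).normal_ker.eq_bot_or_eq_top with h | h
  · rw [h, Subgroup.isComplement'_bot_left] at hcompl
    exact sylow_two_not_normal hG S (hcompl ▸ (inferInstance : (⊤ : Subgroup G).Normal))
  · rw [h, Subgroup.isComplement'_top_left] at hcompl
    exact S.ne_bot_of_dvd_card (two_dvd_card hG) hcompl

/-- A simple group with abelian involution centralisers is `PSL₂` in characteristic two. -/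
theorem psl_of_abCent (h : ∀ t : G, orderOf t = 2 → AbCent t) :
    ∃ (m : ℕ) (F : Type) (_ : Field F) (_ : Fintype F), 2 ≤ m ∧ Fintype.card F = 2 ^ m ∧
      Nonempty (G ≃* Matrix.ProjectiveSpecialLinearGroup (Fin 2) F) := by
  haveI : Fact (Nat.Prime 2) := ⟨Nat.prime_two⟩
  obtain ⟨S⟩ : Nonempty (Sylow 2 G) := inferInstance
  rcases Cfsg.Agent.S2202.result (even_iff_two_dvd.2 (two_dvd_card hG))
    (fun t ht => ⟨⟨fun a b => Subtype.ext (h t ht a a.2 b b.2).eq⟩⟩) with
    hc | hn | ⟨F, iF, iT, A, iA, iAF, hchar, hodd, ⟨e⟩⟩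
  · exact absurd (hc S) (sylow_two_not_cyclic hG S)
  · exact absurd (hn S) (sylow_two_not_normal hG S)
  classical
  let pr : G →* A := (MonoidHom.snd _ _).comp e.toMonoidHom
  have hA : ∀ a : A, a = 1 := by
    intro a
    have ha : pr (e.symm (1, a)) = a := by simp [pr]
    rcases pr.normal_ker.eq_bot_or_eq_top with hk | hk
    · refine absurd ⟨⟨fun x y => (MonoidHom.ker_eq_bot_iff pr).1 hk ?_⟩⟩ hG
      rw [map_mul, map_mul, mul_comm]
    · rw [← ha, MonoidHom.mem_ker.1 (hk ▸ mem_top _)]
  haveI : Unique A := ⟨⟨1⟩, hA⟩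
  have hbot : center (Matrix.SpecialLinearGroup (Fin 2) F) = ⊥ := by
    rw [eq_bot_iff]
    intro M hM
    obtain ⟨r, hr, hrM⟩ := Matrix.SpecialLinearGroup.mem_center_iff.mp hM
    rw [Fintype.card_fin] at hr
    have h2 : (r - 1) ^ 2 = 0 := by rw [sub_pow_char, one_pow, hr, sub_self]
    rw [sub_eq_zero.mp (eq_zero_of_pow_eq_zero h2), map_one] at hrM
    exact mem_bot.mpr (Subtype.ext hrM.symm)
  let e1 : G ≃* Matrix.SpecialLinearGroup (Fin 2) F := e.trans MulEquiv.prodUnique
  let e2 : G ≃* Matrix.ProjectiveSpecialLinearGroup (Fin 2) F :=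
    e1.trans ((QuotientGroup.quotientMulEquivOfEq hbot).trans QuotientGroup.quotientBot).symm
  obtain ⟨n, -, hn⟩ := FiniteField.card F 2
  refine ⟨n, F, iF, iT, ?_, hn, ⟨e2⟩⟩
  by_contra hlt
  have hn1 : (n : ℕ) = 1 := by have := n.pos; omega
  have hF : Nat.card F = 2 := by rw [Nat.card_eq_fintype_card, hn, hn1, pow_one]
  have hcard : Nat.card G = 6 := by
    rw [Nat.card_congr e1.toEquiv, Classical.GL2.natCard_SL_two, ← Nat.card_eq_fintype_card, hF]
  refine sylow_two_not_cyclic hG S (isCyclic_of_prime_card (p := 2) ?_)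
  rw [S.card_eq_multiplicity, hcard, show (6 : ℕ) = 2 * 3 by norm_num,
    Nat.factorization_mul (by norm_num) (by norm_num), Nat.Prime.factorization Nat.prime_two,
    Nat.Prime.factorization Nat.prime_three]
  simp

omit [IsSimpleGroup G] hG in
/-- In `PSL₂` in characteristic two no centraliser of a nontrivial element contains another one
properly. -/
theorem cent_eq_of_psl
    (h : ∃ (m : ℕ) (F : Type) (_ : Field F) (_ : Fintype F), 2 ≤ m ∧ Fintype.card F = 2 ^ m ∧
      Nonempty (G ≃* Matrix.ProjectiveSpecialLinearGroup (Fin 2) F))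
    {x y : G} (hy : y ≠ 1) (hle : cent x ≤ cent y) : cent x = cent y := by
  obtain ⟨m, F, iF, iT, hm, hF, ⟨e⟩⟩ := h
  haveI : Fact (Nat.Prime 2) := ⟨Nat.prime_two⟩
  haveI : CharP F 2 := (CharP.charP_iff_prime_eq_zero Nat.prime_two).2 (by
    have h := Nat.cast_card_eq_zero F
    rw [hF, Nat.cast_pow] at h
    exact_mod_cast eq_zero_of_pow_eq_zero h)
  refine le_antisymm hle fun g hg => mem_cent.2 ?_
  have hxy : Commute y x := (mem_cent.1 (hle (GStructB.TwoSizes.self_mem_cent x))).symm
  have h := Cfsg.Agent.CTGroup.psl_two_comm (F := F) (a := e y) (b := e g) (c := e x)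
    (by simpa using hy) ((mem_cent.1 hg).symm.map e.toMonoidHom) (hxy.map e.toMonoidHom)
  exact e.injective (by simpa only [map_mul] using h.eq)

end Cfsg.Agent.ClassRankThree
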